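import Groth.Agent.Lib.SquareNC14.Curves
import Groth.Agent.Lib.CubeField.Square
import Groth.Agent.Lib.CubeField.FinInst
import Groth.Agent.Lib.Curve17.ExtendInvMain
import Groth.Agent.Lib.RegLoc.UFD
import Groth.Agent.Lib.WeilExt.Regular
import Groth.Agent.Lib.AbRigid.Epi

/-!
# The square relation for smooth varieties, none of them assumed complete
-/

set_option autoImplicit false
universe u

open CategoryTheory CategoryTheory.Limits MonoidalCategory CartesianMonoidalCategory AlgebraicGeometry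

set_option linter.style.haveILetI false
set_option backward.isDefEq.respectTransparency false

namespace Groth.Agent.SquareNC14

open CubeField

noncomputable local instance instLawNC (Y : Scheme.{u}) : PicGrp.Law Y := M2.law Y

variable {k : Type u} [Field k]

theorem smooth_tensorObj (X Y : Over (Spec (CommRingCat.of k))) [Smooth X.hom] [Smooth Y.hom] :
    Smooth (X ⊗ Y).hom := inferInstanceAs (Smooth (pullback.fst X.hom Y.hom ≫ X.hom))

theorem isSeparated_tensorObj (X Y : Over (Spec (CommRingCat.of k))) [IsSeparated X.hom] [IsSeparated Y.hom] :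
    IsSeparated (X ⊗ Y).hom := inferInstanceAs (IsSeparated (pullback.fst X.hom Y.hom ≫ X.hom))

theorem quasiCompact_tensorObj (X Y : Over (Spec (CommRingCat.of k))) [QuasiCompact X.hom] [QuasiCompact Y.hom] :
    QuasiCompact (X ⊗ Y).hom := inferInstanceAs (QuasiCompact (pullback.fst X.hom Y.hom ≫ X.hom))

theorem ufd_stalk (X : Over (Spec (CommRingCat.of k))) [Smooth X.hom] (x : X.left) :
    UniqueFactorizationMonoid (X.left.presheaf.stalk x) := by
  haveI := WeilExt.isRegularLocalRing_of_smooth X.hom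
    (fun s => WeilExt.isRegularLocalRing_stalk_Spec (CommRingCat.of k) s) x
  exact RegLoc.ufd_of_isRegularLocalRing _

/-- An invertible module on an open subscheme of a smooth variety extends. -/
theorem exists_extension_openImmersion {X T : Over (Spec (CommRingCat.of k))} [Smooth T.hom] (j : X ⟶ T)
    [IsOpenImmersion j.left] (M : X.left.Modules) (hM : PicF.IsInvertible M) :
    ∃ (M' : T.left.Modules) (hM' : PicF.IsInvertible M'),
      PicGrp.pullHom j.left (M2.pullMul _) (PicGrp.cls M' hM') = PicGrp.cls M hM := by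
  haveI : IsLocallyNoetherian T.left := LocallyOfFiniteType.isLocallyNoetherian T.hom
  let e := j.left.isoOpensRange
  obtain ⟨M', hM', ⟨ε⟩⟩ := Curve17.exists_extension j.left.opensRange ((Scheme.Modules.pullback e.inv).obj M)
    (PicLoc.isInvertible_pullback _ hM) fun x _ => ufd_stalk T x
  refine ⟨M', hM', ?_⟩
  rw [PicGrp.pullHom_cls]
  refine Subtype.ext (M2.cl_eq_of_iso ?_)
  refine (Scheme.Modules.pullbackCongr (Scheme.Hom.isoOpensRange_hom_ι j.left).symm).app M' ≪≫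
    ((Scheme.Modules.pullbackComp e.hom j.left.opensRange.ι).app M').symm ≪≫
    (Scheme.Modules.pullback e.hom).mapIso
      (((Scheme.Modules.restrictFunctorIsoPullback j.left.opensRange.ι).app M').symm ≪≫ ε) ≪≫
    (Scheme.Modules.pullbackComp e.hom e.inv).app M ≪≫
    (Scheme.Modules.pullbackCongr e.hom_inv_id).app M ≪≫ (Scheme.Modules.pullbackId X.left).app M

variable {U V W : Over (Spec (CommRingCat.of k))}

/-- The slice `W ≅ {a} × {b} × W`. -/
noncomputable def sl (W : Over (Spec (CommRingCat.of k))) (a : 𝟙_ (Over (Spec (CommRingCat.of k))) ⟶ U)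
    (b : 𝟙_ (Over (Spec (CommRingCat.of k))) ⟶ V) : W ⟶ U ⊗ V ⊗ W :=
  lift (toUnit W ≫ a) (lift (toUnit W ≫ b) (𝟙 W))

theorem sl_map {C D : Over (Spec (CommRingCat.of k))} (γ : C ⟶ U) (δ : D ⟶ V)
    (c : 𝟙_ (Over (Spec (CommRingCat.of k))) ⟶ C) (d : 𝟙_ (Over (Spec (CommRingCat.of k))) ⟶ D) :
    sl W c d ≫ (γ ⊗ₘ (δ ⊗ₘ 𝟙 W)) = sl W (c ≫ γ) (d ≫ δ) := by
  simp [sl, lift_map]

/-- The square relation at two pairs of points. -/
def Rel (L : (U ⊗ V ⊗ W).left.Modules) (hL : PicF.IsInvertible L)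
    (a₀ a₁ : 𝟙_ (Over (Spec (CommRingCat.of k))) ⟶ U) (b₀ b₁ : 𝟙_ (Over (Spec (CommRingCat.of k))) ⟶ V) : Prop :=
  P L hL (sl W a₀ b₀) * P L hL (sl W a₁ b₁) = P L hL (sl W a₀ b₁) * P L hL (sl W a₁ b₀)

variable [IsAlgClosed k]

/-- The cube theorem gives the square relation over proper bases. -/
theorem rel_of_proper (C D : Over (Spec (CommRingCat.of k))) [IsProper C.hom] [GeometricallyIntegral C.hom]
    [IsProper D.hom] [GeometricallyIntegral D.hom] [LocallyOfFiniteType W.hom] [QuasiCompact W.hom]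
    [GeometricallyIntegral W.hom] (L : (C ⊗ D ⊗ W).left.Modules) (hL : PicF.IsInvertible L)
    (c₀ c₁ : 𝟙_ (Over (Spec (CommRingCat.of k))) ⟶ C) (d₀ d₁ : 𝟙_ (Over (Spec (CommRingCat.of k))) ⟶ D) :
    Rel L hL c₀ c₁ d₀ d₁ := by
  haveI := geometricallyConnected_of_irreducible D.hom
  haveI : IsIntegral W.left := GeometricallyIntegral.isIntegral_of_subsingleton W.hom
  haveI : JacobsonSpace W.left := LocallyOfFiniteType.jacobsonSpace W.hom
  obtain ⟨w₀, -⟩ : ∃ w : 𝟙_ (Over (Spec (CommRingCat.of k))) ⟶ W, True := by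
    obtain ⟨x, -, hx⟩ := nonempty_inter_closedPoints (Z := (Set.univ : Set W.left))
      Set.univ_nonempty isOpen_univ.isLocallyClosed
    exact ⟨(exists_rpt (X := W) hx).choose, trivial⟩
  let p₁ : C ⊗ D ⊗ W ⟶ C := fst _ _
  let p₂ : C ⊗ D ⊗ W ⟶ D := snd _ _ ≫ fst _ _
  let p₃ : C ⊗ D ⊗ W ⟶ W := snd _ _ ≫ snd _ _
  let R : ∀ {T : Over (Spec (CommRingCat.of k))}, (T ⟶ C) → (T ⟶ D) → (T ⟶ W) → PicLoc.PicSet T.left :=
    fun x y z => P L hL (lift x (lift y z))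
  let G : ∀ {T : Over (Spec (CommRingCat.of k))}, (T ⟶ C) → (T ⟶ D) → (T ⟶ W) → PicLoc.PicSet T.left :=
    fun {T} x y z => R x y z * R (toUnit T ≫ c₀) (toUnit T ≫ d₀) z *
      (R (toUnit T ≫ c₀) y z * R x (toUnit T ≫ d₀) z)⁻¹
  let M : PicLoc.PicSet (C ⊗ D ⊗ W).left := G p₁ p₂ p₃ * (G p₁ p₂ (toUnit _ ≫ w₀))⁻¹
  have key : ∀ {T : Over (Spec (CommRingCat.of k))} (s : T ⟶ C ⊗ D ⊗ W) (x : T ⟶ C) (y : T ⟶ D) (z : T ⟶ W),
      s ≫ p₁ = x → s ≫ p₂ = y → s ≫ p₃ = z →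
      PicGrp.pullHom s.left (M2.pullMul _) M = G x y z * (G x y (toUnit T ≫ w₀))⁻¹ := fun {T} s x y z hx hy hz => by
    simp only [M, G, R, map_mul, map_inv, pullHom_P, comp_lift, hx, hy, hz, comp_toUnit_assoc]
  obtain ⟨N, hN, hMN⟩ := PicGrp.exists_eq_cls M
  have htriv : ∀ {T : Over (Spec (CommRingCat.of k))} (s : T ⟶ C ⊗ D ⊗ W),
      PicGrp.pullHom s.left (M2.pullMul _) M = 1 → IsTriv ((Scheme.Modules.pullback s.left).obj N) :=
    fun {T} s hs => by
      rw [hMN, PicGrp.pullHom_cls, PicGrp.cls_eq_one_iff] at hs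
      exact hs
  have hM : M = 1 := by
    rw [hMN, PicGrp.cls_eq_one_iff]
    refine isTriv_cube finH1 C D W c₀ d₀ w₀ N hN (htriv _ ?_) (htriv _ ?_) (htriv _ ?_)
    · rw [key _ (toUnit _ ≫ c₀) (fst D W) (snd D W) (by simp [p₁]) (by simp [p₂]) (by simp [p₃])]
      simp [G, mul_comm, mul_left_comm]
    · rw [key _ (fst C W) (toUnit _ ≫ d₀) (snd C W) (by simp [p₁]) (by simp [p₂]) (by simp [p₃])]
      simp [G, mul_comm, mul_left_comm]
    · rw [key _ (fst C D) (snd C D) (toUnit _ ≫ w₀) (by simp [p₁]) (by simp [p₂]) (by simp [p₃])]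
      exact mul_inv_cancel _
  have h1 := key (sl W c₁ d₁) (toUnit W ≫ c₁) (toUnit W ≫ d₁) (𝟙 W) (by simp [p₁, sl]) (by simp [p₂, sl])
    (by simp [p₃, sl])
  have hc : ∀ (c : 𝟙_ (Over (Spec (CommRingCat.of k))) ⟶ C) (d : 𝟙_ (Over (Spec (CommRingCat.of k))) ⟶ D),
      R (toUnit W ≫ c) (toUnit W ≫ d) (toUnit W ≫ w₀) = 1 := fun c d => by
    show P L hL _ = 1
    rw [show lift (toUnit W ≫ c) (lift (toUnit W ≫ d) (toUnit W ≫ w₀)) = toUnit W ≫ lift c (lift d w₀) by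
      simp [comp_lift]]
    exact P_const _
  rw [hM, map_one] at h1
  simp only [G, hc, one_mul, inv_one, mul_one] at h1
  have h2 := mul_inv_eq_one.1 h1.symm
  show R (toUnit W ≫ c₀) (toUnit W ≫ d₀) (𝟙 W) * R (toUnit W ≫ c₁) (toUnit W ≫ d₁) (𝟙 W) =
    R (toUnit W ≫ c₀) (toUnit W ≫ d₁) (𝟙 W) * R (toUnit W ≫ c₁) (toUnit W ≫ d₀) (𝟙 W)
  rw [mul_comm, h2]

/-- The square relation along two curves. -/
theorem rel_of_curvePair [Smooth W.hom] [QuasiCompact W.hom] [GeometricallyIntegral W.hom]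
    (L : (U ⊗ V ⊗ W).left.Modules) (hL : PicF.IsInvertible L)
    {a₀ a₁ : 𝟙_ (Over (Spec (CommRingCat.of k))) ⟶ U} {b₀ b₁ : 𝟙_ (Over (Spec (CommRingCat.of k))) ⟶ V}
    (ha : CurvePair U a₀ a₁) (hb : CurvePair V b₀ b₁) : Rel L hL a₀ a₁ b₀ b₁ := by
  obtain ⟨C, Cb, jC, γ, c₀, c₁, hjC, hCp, hCs, hCg, rfl, rfl⟩ := ha
  obtain ⟨D, Db, jD, δ, d₀, d₁, hjD, hDp, hDs, hDg, rfl, rfl⟩ := hb
  haveI := smooth_tensorObj Db W
  haveI := smooth_tensorObj Cb (Db ⊗ W)
  let Φ : C ⊗ D ⊗ W ⟶ U ⊗ V ⊗ W := γ ⊗ₘ (δ ⊗ₘ 𝟙 W)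
  let j : C ⊗ D ⊗ W ⟶ Cb ⊗ Db ⊗ W := jC ⊗ₘ (jD ⊗ₘ 𝟙 W)
  haveI : IsOpenImmersion (jD ⊗ₘ 𝟙 W).left := by
    rw [Over.tensorHom_left]
    haveI : IsOpenImmersion (𝟙 W : W ⟶ W).left := inferInstanceAs (IsOpenImmersion (𝟙 W.left))
    infer_instance
  haveI : IsOpenImmersion j.left := by
    rw [Over.tensorHom_left]
    infer_instance
  obtain ⟨M, hM, hMeq⟩ := exists_extension_openImmersion j ((Scheme.Modules.pullback Φ.left).obj L)
    (PicLoc.isInvertible_pullback _ hL)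
  have key : ∀ (c : 𝟙_ (Over (Spec (CommRingCat.of k))) ⟶ C) (d : 𝟙_ (Over (Spec (CommRingCat.of k))) ⟶ D),
      P L hL (sl W (c ≫ γ) (d ≫ δ)) = P M hM (sl W (c ≫ jC) (d ≫ jD)) := by
    intro c d
    rw [← sl_map γ δ c d, ← sl_map jC jD c d, ← pullHom_P, ← pullHom_P]
    exact congrArg _ hMeq.symm
  have h := rel_of_proper Cb Db M hM (c₀ ≫ jC) (c₁ ≫ jC) (d₀ ≫ jD) (d₁ ≫ jD)
  simp only [Rel, key] at h ⊢
  exact h

/-- The square relation for smooth varieties. -/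
theorem rel [Smooth U.hom] [QuasiCompact U.hom] [GeometricallyIntegral U.hom] [Smooth V.hom] [QuasiCompact V.hom]
    [GeometricallyIntegral V.hom] [Smooth W.hom] [QuasiCompact W.hom] [GeometricallyIntegral W.hom]
    (L : (U ⊗ V ⊗ W).left.Modules) (hL : PicF.IsInvertible L)
    (a₀ a₁ : 𝟙_ (Over (Spec (CommRingCat.of k))) ⟶ U) (b₀ b₁ : 𝟙_ (Over (Spec (CommRingCat.of k))) ⟶ V) :
    Rel L hL a₀ a₁ b₀ b₁ := by
  obtain ⟨a, ha₀, ha₁⟩ := exists_common_partner U a₀ a₁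
  obtain ⟨b, hb₀, hb₁⟩ := exists_common_partner V b₀ b₁
  have h1 : ∀ a', CurvePair U a' a → ∀ b', CurvePair V b' b → Rel L hL a' a b' b := fun a' ha' b' hb' =>
    rel_of_curvePair L hL ha' hb'
  let F : (𝟙_ (Over (Spec (CommRingCat.of k))) ⟶ U) → (𝟙_ (Over (Spec (CommRingCat.of k))) ⟶ V) →
      PicLoc.PicSet W.left := fun x y => P L hL (sl W x y)
  have hF : ∀ a', CurvePair U a' a → ∀ b', CurvePair V b' b → F a' b' = F a' b * F a b' * (F a b)⁻¹ := fun a' ha' b' hb' =>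
    eq_mul_inv_of_mul_eq (h1 a' ha' b' hb')
  show F a₀ b₀ * F a₁ b₁ = F a₀ b₁ * F a₁ b₀
  rw [hF a₀ ha₀ b₀ hb₀, hF a₁ ha₁ b₁ hb₁, hF a₀ ha₀ b₁ hb₁, hF a₁ ha₁ b₀ hb₀]
  ac_rfl

/-- The square relation as isomorphisms. -/
theorem nonempty_iso [Smooth U.hom] [QuasiCompact U.hom] [GeometricallyIntegral U.hom] [Smooth V.hom]
    [QuasiCompact V.hom] [GeometricallyIntegral V.hom] [Smooth W.hom] [QuasiCompact W.hom]
    [GeometricallyIntegral W.hom] (L : (U ⊗ V ⊗ W).left.Modules) (hL : PicF.IsInvertible L)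
    (a₀ a₁ : 𝟙_ (Over (Spec (CommRingCat.of k))) ⟶ U) (b₀ b₁ : 𝟙_ (Over (Spec (CommRingCat.of k))) ⟶ V) :
    Nonempty (CohB1.tensorMod ((Scheme.Modules.pullback (sl W a₀ b₀).left).obj L)
        ((Scheme.Modules.pullback (sl W a₁ b₁).left).obj L) ≅
      CohB1.tensorMod ((Scheme.Modules.pullback (sl W a₀ b₁).left).obj L)
        ((Scheme.Modules.pullback (sl W a₁ b₀).left).obj L)) := by
  have h1 := congrArg Subtype.val (rel L hL a₀ a₁ b₀ b₁)
  simp only [P, PicGrp.mul_val, PicGrp.cls_val, PicGrp.mulCl_cl] at h1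
  exact (PicGrp.cl_eq_cl_iff _ _).1 h1

end Groth.Agent.SquareNC14

namespace Groth.Agent.SquareNC14

open CubeField

noncomputable local instance instLawNC' (Y : Scheme.{u}) : PicGrp.Law Y := M2.law Y

variable {k : Type u} [Field k] [IsAlgClosed k]

/-- The square relation for the pullback along a map out of a product. -/
theorem P_square {U V W Z : Over (Spec (CommRingCat.of k))} [Smooth U.hom] [QuasiCompact U.hom]
    [GeometricallyIntegral U.hom] [Smooth V.hom] [QuasiCompact V.hom]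
    [GeometricallyIntegral V.hom] [Smooth W.hom] [QuasiCompact W.hom] [GeometricallyIntegral W.hom]
    (ν : U ⊗ V ⊗ W ⟶ Z) (L : Z.left.Modules) (hL : PicF.IsInvertible L)
    (a₀ a₁ : 𝟙_ (Over (Spec (CommRingCat.of k))) ⟶ U) (b₀ b₁ : 𝟙_ (Over (Spec (CommRingCat.of k))) ⟶ V) :
    P L hL (sl W a₀ b₀ ≫ ν) * P L hL (sl W a₁ b₁ ≫ ν) = P L hL (sl W a₀ b₁ ≫ ν) * P L hL (sl W a₁ b₀ ≫ ν) := by
  have h := rel ((Scheme.Modules.pullback ν.left).obj L) (PicLoc.isInvertible_pullback _ hL) a₀ a₁ b₀ b₁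
  have key : ∀ f : W ⟶ U ⊗ V ⊗ W,
      P ((Scheme.Modules.pullback ν.left).obj L) (PicLoc.isInvertible_pullback _ hL) f = P L hL (f ≫ ν) := by
    intro f
    rw [← pullHom_P]
    exact (PicGrp.pullHom_cls _ _ _ _).symm
  simp only [Rel, key] at h
  exact h

/-- From an equation of classes to an isomorphism of tensor products. -/
theorem nonempty_iso_of_P {Z T : Over (Spec (CommRingCat.of k))} {L : Z.left.Modules} {hL : PicF.IsInvertible L}
    {f g f' g' : T ⟶ Z} (h : P L hL f * P L hL g = P L hL f' * P L hL g') :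
    Nonempty (CohB1.tensorMod ((Scheme.Modules.pullback f.left).obj L) ((Scheme.Modules.pullback g.left).obj L) ≅
      CohB1.tensorMod ((Scheme.Modules.pullback f'.left).obj L) ((Scheme.Modules.pullback g'.left).obj L)) := by
  have h1 := congrArg Subtype.val h
  simp only [P, PicGrp.mul_val, PicGrp.cls_val, PicGrp.mulCl_cl] at h1
  exact (PicGrp.cl_eq_cl_iff _ _).1 h1

end Groth.Agent.SquareNC14
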