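import Mathlib

/-!
# The formal branch of a smooth algebra in a varying direction
-/

set_option autoImplicit false
universe u

open MvPolynomial

namespace Groth.Agent.SquareNC14

/-- An etale algebra lifts uniquely to a complete ring along a nilpotently thickened point. -/
theorem exists_lift_powerSeries {P A R : Type u} [CommRing P] [CommRing A] [CommRing R] [Algebra P A]
    [Algebra.Etale P A] (f : P →+* PowerSeries R) (a : A →+* R)
    (h : a.comp (algebraMap P A) = PowerSeries.constantCoeff.comp f) :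
    ∃ θ : A →+* PowerSeries R, θ.comp (algebraMap P A) = f ∧ PowerSeries.constantCoeff.comp θ = a := by
  letI : Algebra P (PowerSeries R) := f.toAlgebra
  let I : Ideal (PowerSeries R) := Ideal.span {PowerSeries.X}
  have hI : RingHom.ker (PowerSeries.constantCoeff (R := R)) = I := by
    ext x
    rw [RingHom.mem_ker, Ideal.mem_span_singleton, PowerSeries.X_dvd_iff]
  have hker : ∀ n, ∀ x ∈ I ^ (n + 1), PowerSeries.constantCoeff x = 0 := fun n x hx =>
    RingHom.mem_ker.1 (hI.ge (Ideal.pow_le_self n.succ_ne_zero hx))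
  -- compatible maps
  let red : (n : ℕ) → PowerSeries R ⧸ I ^ (n + 1) →+* R := fun n =>
    Ideal.Quotient.lift _ PowerSeries.constantCoeff (hker n)
  have hred : ∀ n, RingHom.ker (red n) = I.map (Ideal.Quotient.mk (I ^ (n + 1))) := fun n => by
    ext q
    obtain ⟨x, rfl⟩ := Ideal.Quotient.mk_surjective q
    rw [RingHom.mem_ker, Ideal.mem_map_iff_of_surjective _ Ideal.Quotient.mk_surjective]
    refine ⟨fun hx => ⟨x, hI.le hx, rfl⟩, fun ⟨y, hy, hyx⟩ => ?_⟩
    rw [← hyx]
    exact hI.ge hy
  have hnil : ∀ n, IsNilpotent (RingHom.ker (red n)) := fun n => ⟨n + 1, by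
    rw [hred, ← Ideal.map_pow, Ideal.map_quotient_self, Ideal.zero_eq_bot]⟩
  letI : Algebra P R := (PowerSeries.constantCoeff.comp f).toAlgebra
  let aA : A →ₐ[P] R := ⟨a, fun p => RingHom.congr_fun h p⟩
  let redA : (n : ℕ) → PowerSeries R ⧸ I ^ (n + 1) →ₐ[P] R := fun n => ⟨red n, fun p => rfl⟩
  have hsurj : ∀ n, Function.Surjective (redA n) := fun n r =>
    ⟨Ideal.Quotient.mk _ (PowerSeries.C r), PowerSeries.constantCoeff_C r⟩
  let g : (n : ℕ) → A →ₐ[P] PowerSeries R ⧸ I ^ (n + 1) := fun n =>
    Algebra.FormallySmooth.liftOfSurjective aA (redA n) (hsurj n) (hnil n)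
  have hg : ∀ n x, red n (g n x) = a x := fun n x =>
    Algebra.FormallySmooth.liftOfSurjective_apply aA (redA n) (hsurj n) (hnil n) x
  have hcompat : ∀ {m n : ℕ} (hle : m ≤ n),
      (Ideal.Quotient.factorₐ P (Ideal.pow_le_pow_right (Nat.succ_le_succ hle))).comp (g n) = g m := by
    intro m n hle
    refine Algebra.FormallyUnramified.ext (RingHom.ker (red m)) (hnil m) fun x => ?_
    refine Ideal.Quotient.eq.2 ?_
    rw [RingHom.mem_ker, map_sub, hg m, sub_eq_zero]
    rw [← hg n x]
    obtain ⟨y, hy⟩ := Ideal.Quotient.mk_surjective (g n x)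
    show red m (Ideal.Quotient.factorₐ P (Ideal.pow_le_pow_right (Nat.succ_le_succ hle)) (g n x)) = _
    rw [← hy]
    rfl
  let F : (n : ℕ) → A →ₐ[P] PowerSeries R ⧸ I ^ n := fun n =>
    (Ideal.Quotient.factorₐ P (Ideal.pow_le_pow_right n.le_succ)).comp (g n)
  have hF : ∀ {m n : ℕ} (hle : m ≤ n),
      (Ideal.Quotient.factorₐ P (Ideal.pow_le_pow_right hle)).comp (F n) = F m := by
    intro m n hle
    refine AlgHom.ext fun x => ?_
    obtain ⟨y, hy⟩ := Ideal.Quotient.mk_surjective (g n x)
    have h2 := AlgHom.congr_fun (hcompat hle) x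
    show Ideal.Quotient.factorₐ P (Ideal.pow_le_pow_right hle)
        (Ideal.Quotient.factorₐ P (Ideal.pow_le_pow_right n.le_succ) (g n x)) =
      Ideal.Quotient.factorₐ P (Ideal.pow_le_pow_right m.le_succ) (g m x)
    rw [← h2]
    show _ = Ideal.Quotient.factorₐ P (Ideal.pow_le_pow_right m.le_succ)
      (Ideal.Quotient.factorₐ P (Ideal.pow_le_pow_right (Nat.succ_le_succ hle)) (g n x))
    rw [← hy]
    rfl
  let θ : A →ₐ[P] PowerSeries R := IsAdicComplete.liftAlgHom I F hF
  refine ⟨θ.toRingHom, RingHom.ext fun p => θ.commutes p, RingHom.ext fun x => ?_⟩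
  have h2 : Ideal.Quotient.mk (I ^ 1) (θ x) = F 1 x := IsAdicComplete.mk_liftAlgHom I F hF 1 x
  obtain ⟨y, hy⟩ := Ideal.Quotient.mk_surjective (g 1 x)
  have h3 : Ideal.Quotient.mk (I ^ 1) (θ x) = Ideal.Quotient.mk (I ^ 1) y := by
    rw [h2]
    show Ideal.Quotient.factorₐ P (Ideal.pow_le_pow_right (Nat.le_succ 1)) (g 1 x) = _
    rw [← hy]
    rfl
  show PowerSeries.constantCoeff (θ x) = a x
  rw [← sub_eq_zero, ← hg 1 x, ← hy]
  show PowerSeries.constantCoeff (θ x) - PowerSeries.constantCoeff y = 0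
  rw [← map_sub]
  exact hker 0 _ (Ideal.Quotient.eq.1 h3)

/-- A power series algebraic over the field of constants is constant. -/
theorem eq_C_of_isAlgebraic {L : Type u} [Field L] (f : PowerSeries L) (hf : IsAlgebraic L f) :
    f = algebraMap L (PowerSeries L) (PowerSeries.constantCoeff f) := by
  set g := f - algebraMap L (PowerSeries L) (PowerSeries.constantCoeff f) with hg
  have hg0 : PowerSeries.constantCoeff g = 0 := by
    rw [hg, map_sub]; simp
  have hgi : IsIntegral L g := (hf.isIntegral).sub isIntegral_algebraMap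
  rcases eq_or_ne g 0 with h | h
  · exact sub_eq_zero.1 h
  exfalso
  have hne := minpoly.coeff_zero_ne_zero hgi h
  have := congrArg PowerSeries.constantCoeff (minpoly.aeval L g)
  rw [map_zero, Polynomial.aeval_def, Polynomial.hom_eval₂, hg0, Polynomial.eval₂_at_zero] at this
  refine hne ?_
  simpa using this

/-- An element of a field of Laurent series algebraic over the constants is constant. -/
theorem mem_range_of_isAlgebraic {L : Type u} [Field L] (e : LaurentSeries L) (he : IsAlgebraic L e) :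
    e ∈ Set.range (algebraMap L (LaurentSeries L)) := by
  let ι : PowerSeries L →ₐ[L] LaurentSeries L :=
    ⟨HahnSeries.ofPowerSeries ℤ L, fun c => by
      show HahnSeries.ofPowerSeries ℤ L (algebraMap L (PowerSeries L) c) = _
      rw [HahnSeries.algebraMap_apply']⟩
  have hι : Function.Injective ι := HahnSeries.ofPowerSeries_injective
  have key : ∀ y : LaurentSeries L, IsAlgebraic L y → 0 ≤ y.order →
      y ∈ Set.range (algebraMap L (LaurentSeries L)) := by
    intro y hy hord
    obtain ⟨n, hn⟩ := Int.eq_ofNat_of_zero_le hord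
    have hy' : y = ι (PowerSeries.X ^ n * y.powerSeriesPart) := by
      conv_lhs => rw [← LaurentSeries.single_order_mul_powerSeriesPart y]
      show _ = HahnSeries.ofPowerSeries ℤ L (PowerSeries.X ^ n * y.powerSeriesPart)
      rw [map_mul, map_pow, HahnSeries.ofPowerSeries_X, HahnSeries.single_pow, hn]
      simp
    rw [hy'] at hy ⊢
    exact ⟨_, (ι.commutes _).symm.trans (congrArg ι (eq_C_of_isAlgebraic _ ((isAlgebraic_algHom_iff ι hι).1 hy)).symm)⟩
  by_cases h : 0 ≤ e.order
  · exact key e he h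
  · have he0 : e ≠ 0 := fun h0 => h (by simp [h0])
    have hinv : 0 ≤ (e⁻¹).order := by
      have := HahnSeries.order_mul he0 (inv_ne_zero he0)
      rw [mul_inv_cancel₀ he0, HahnSeries.order_one] at this
      omega
    obtain ⟨c, hc⟩ := key _ he.inv hinv
    exact ⟨c⁻¹, by rw [map_inv₀, hc, inv_inv]⟩

end Groth.Agent.SquareNC14
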