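import Groth.Agent.Lib.SquareNC14.Through
import Groth.Agent.Lib.CurveNF.Complete
import Groth.Agent.Lib.CubeField.Contract
import Groth.Agent.Lib.CubeField.Simple
import Groth.Agent.Lib.IntClosFin.Main
import Groth.Agent.Lib.RegSmooth17.Scheme
import Mathlib.RingTheory.Smooth.StandardSmooth

/-!
# Any two points of a smooth variety are joined by two curves with smooth completions
-/

set_option autoImplicit false
set_option linter.style.haveILetI false
universe u

open CategoryTheory CategoryTheory.Limits MonoidalCategory CartesianMonoidalCategory AlgebraicGeometry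

namespace Groth.Agent.SquareNC14

open CubeField

variable {k : Type u} [Field k]

/-- In etale coordinates centred at a point, a general point shares a curve with it. -/
theorem exists_open_through [IsAlgClosed k] {A : Type u} [CommRing A] [IsDomain A] [Algebra k A]
    (hA : (algebraMap k A).IsStandardSmooth) (a : A →ₐ[k] k) :
    ∃ o : A, o ≠ 0 ∧ ∀ b : A →ₐ[k] k, b o ≠ 0 → ∃ P : Ideal A, P.IsPrime ∧ P ≤ RingHom.ker a ∧
      P ≤ RingHom.ker b ∧ ringKrullDim (A ⧸ P) ≤ 1 := by
  obtain ⟨n, g, hgC, hg⟩ := hA.exists_etale_mvPolynomial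
  cases n with
  | zero =>
    refine ⟨1, one_ne_zero, fun b _ => ?_⟩
    letI : Algebra (MvPolynomial (Fin 0) k) A := g.toAlgebra
    haveI : Algebra.Etale (MvPolynomial (Fin 0) k) A := hg
    have hbij : ∀ φ : A →ₐ[k] k, RingHom.ker φ = ⊥ := fun φ => by
      haveI := RingHom.ker_isPrime (φ : A →+* k)
      refine (Algebra.QuasiFinite.eq_of_le_of_under_eq (R := MvPolynomial (Fin 0) k) (⊥ : Ideal A)
        (RingHom.ker (φ : A →+* k)) bot_le ?_).symm
      refine le_antisymm (Ideal.comap_mono bot_le) fun p hp => ?_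
      obtain ⟨x, rfl⟩ := MvPolynomial.C_surjective (Fin 0) p
      change φ (g (MvPolynomial.C x)) = 0 at hp
      show g (MvPolynomial.C x) ∈ (⊥ : Ideal A)
      rw [← RingHom.comp_apply, hgC] at hp ⊢
      rw [AlgHom.commutes] at hp
      rw [show x = 0 from hp, map_zero]
      exact zero_mem _
    refine ⟨⊥, Ideal.isPrime_bot, bot_le, bot_le, ?_⟩
    haveI : (⊥ : Ideal A).IsMaximal := by
      rw [← hbij a]
      exact RingHom.ker_isMaximal_of_surjective _ fun x => ⟨algebraMap k A x, a.commutes x⟩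
    letI := Ideal.Quotient.field (⊥ : Ideal A)
    rw [ringKrullDim_eq_zero_of_field]
    exact zero_le_one
  | succ d =>
    let e := MvPolynomial.renameEquiv k (finSuccEquiv d)
    let sh : ∀ _v : Option (Fin d) → k, MvPolynomial (Option (Fin d)) k →ₐ[k] MvPolynomial (Option (Fin d)) k :=
      fun v => MvPolynomial.aeval fun j => MvPolynomial.X j - MvPolynomial.C (v j)
    have hshX : ∀ v j, sh v (MvPolynomial.X j) = MvPolynomial.X j - MvPolynomial.C (v j) := fun v j =>
      MvPolynomial.aeval_X _ j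
    have hshC : ∀ v x, sh v (MvPolynomial.C x) = MvPolynomial.C x := fun v x => MvPolynomial.aeval_C _ x
    let v : Option (Fin d) → k := fun j => a (g (e.symm (MvPolynomial.X j)))
    let se : MvPolynomial (Option (Fin d)) k ≃ₐ[k] MvPolynomial (Option (Fin d)) k :=
      AlgEquiv.ofAlgHom (sh v) (sh (-v))
      (MvPolynomial.algHom_ext fun j => by
        rw [AlgHom.comp_apply, hshX, map_sub, hshX, hshC, Pi.neg_apply, map_neg, AlgHom.id_apply, sub_neg_eq_add,
          sub_add_cancel])
      (MvPolynomial.algHom_ext fun j => by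
        rw [AlgHom.comp_apply, hshX, map_sub, hshX, hshC, Pi.neg_apply, map_neg, AlgHom.id_apply, sub_neg_eq_add,
          add_sub_cancel_right])
    let g' : MvPolynomial (Option (Fin d)) k →+* A :=
      g.comp ((e.symm.toRingEquiv.toRingHom).comp se.toRingEquiv.toRingHom)
    have hg' : g'.Etale := by
      have h1 : ((e.symm.toRingEquiv.toRingHom).comp se.toRingEquiv.toRingHom).Etale :=
        RingHom.Etale.of_bijective (e.symm.bijective.comp se.bijective)
      exact RingHom.Etale.stableUnderComposition _ _ h1 hg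
    letI : Algebra (MvPolynomial (Option (Fin d)) k) A := g'.toAlgebra
    haveI : Algebra.Etale (MvPolynomial (Option (Fin d)) k) A := hg'
    haveI : IsScalarTower k (MvPolynomial (Option (Fin d)) k) A := IsScalarTower.of_algebraMap_eq fun x => by
      show algebraMap k A x = g (e.symm (se (MvPolynomial.C x)))
      rw [← MvPolynomial.algebraMap_eq, se.commutes, e.symm.commutes, MvPolynomial.algebraMap_eq,
        ← RingHom.comp_apply, hgC]
    haveI : Algebra.FiniteType k A :=
      Algebra.FiniteType.trans (S := MvPolynomial (Option (Fin d)) k) inferInstance inferInstance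
    refine exists_prime_through (d := d) a fun j => ?_
    show a (g (e.symm (sh v (MvPolynomial.X j)))) = 0
    rw [hshX, map_sub, map_sub, map_sub, ← MvPolynomial.algebraMap_eq, e.symm.commutes, MvPolynomial.algebraMap_eq,
      ← RingHom.comp_apply g, hgC, a.commutes]
    exact sub_self _

/-- Two points on the image of a curve with smooth completion. -/
def CurvePair (U : Over (Spec (CommRingCat.of k))) (a b : 𝟙_ (Over (Spec (CommRingCat.of k))) ⟶ U) : Prop :=
  ∃ (C Cb : Over (Spec (CommRingCat.of k))) (j : C ⟶ Cb) (γ : C ⟶ U)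
    (c₀ c₁ : 𝟙_ (Over (Spec (CommRingCat.of k))) ⟶ C),
    IsOpenImmersion j.left ∧ IsProper Cb.hom ∧ Smooth Cb.hom ∧ GeometricallyIntegral Cb.hom ∧
      c₀ ≫ γ = a ∧ c₁ ≫ γ = b

variable [IsAlgClosed k]

/-- The point itself as a curve. -/
theorem curvePair_refl (U : Over (Spec (CommRingCat.of k))) (a : 𝟙_ (Over (Spec (CommRingCat.of k))) ⟶ U) :
    CurvePair U a a := by
  refine ⟨_, _, 𝟙 _, a, 𝟙 _, 𝟙 _, inferInstanceAs (IsOpenImmersion (𝟙 _)), ?_, ?_, ?_, Category.id_comp a,
    Category.id_comp a⟩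
  · exact inferInstanceAs (IsProper (𝟙 (Spec (CommRingCat.of k))))
  · exact inferInstanceAs (Smooth (𝟙 (Spec (CommRingCat.of k))))
  · exact geometricallyIntegral_of_isIntegral (𝟙 (Spec (CommRingCat.of k)))

/-- A rational point as an algebra map. -/
theorem exists_algHom_lift {R B' : Type u} [CommRing R] [Algebra k R] [CommRing B'] [Algebra k B'] [Algebra R B']
    [IsScalarTower k R B'] [Module.Finite R B'] (hinj : Function.Injective (algebraMap R B'))
    [Algebra.FiniteType k B'] (φ : R →ₐ[k] k) :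
    ∃ ψ : B' →ₐ[k] k, ψ.comp (IsScalarTower.toAlgHom k R B') = φ := by
  haveI : (RingHom.ker φ).IsMaximal :=
    RingHom.ker_isMaximal_of_surjective _ fun x => ⟨algebraMap k R x, φ.commutes x⟩
  haveI : Algebra.IsIntegral R B' := inferInstance
  obtain ⟨M, hM, hMc⟩ := Ideal.exists_ideal_over_maximal_of_isIntegral (S := B') (RingHom.ker φ)
    (by rw [(RingHom.injective_iff_ker_eq_bot _).1 hinj]; exact bot_le)
  haveI := hM
  haveI : Module.Finite k (B' ⧸ M) := by
    letI := Ideal.Quotient.field M
    exact finite_of_finite_type_of_isJacobsonRing k _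
  haveI : Algebra.IsIntegral k (B' ⧸ M) := inferInstance
  have hbij : Function.Bijective (algebraMap k (B' ⧸ M)) :=
    ⟨RingHom.injective _, (IsAlgClosed.algebraMap_bijective_of_isIntegral).2⟩
  let ψ : B' →ₐ[k] k := (AlgEquiv.ofBijective (Algebra.ofId k (B' ⧸ M)) hbij).symm.toAlgHom.comp
    (Ideal.Quotient.mkₐ k M)
  refine ⟨ψ, AlgHom.ext fun r => ?_⟩
  have h1 : r - algebraMap k R (φ r) ∈ RingHom.ker φ := by simp
  have h2 : algebraMap R B' (r - algebraMap k R (φ r)) ∈ M := by rw [← hMc] at h1; exact h1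
  show ψ (algebraMap R B' r) = φ r
  rw [map_sub, ← IsScalarTower.algebraMap_apply] at h2
  have h3 : Ideal.Quotient.mk M (algebraMap R B' r) = Ideal.Quotient.mk M (algebraMap k B' (φ r)) :=
    Ideal.Quotient.eq.2 h2
  show (AlgEquiv.ofBijective _ hbij).symm (Ideal.Quotient.mk M (algebraMap R B' r)) = φ r
  rw [h3, AlgEquiv.symm_apply_eq]
  rfl

/-- Two points on a curve in an affine chart form a pair. -/
theorem curvePair_of_prime {A : Type u} [CommRing A] [Algebra k A] [Algebra.FiniteType k A]
    (U : Over (Spec (CommRingCat.of k))) (i : Spec (CommRingCat.of A) ⟶ U.left)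
    (hi : i ≫ U.hom = Spec.map (CommRingCat.ofHom (algebraMap k A))) (φa φb : A →ₐ[k] k)
    (a b : 𝟙_ (Over (Spec (CommRingCat.of k))) ⟶ U)
    (ha : Spec.map (CommRingCat.ofHom φa.toRingHom) ≫ i = a.left)
    (hb : Spec.map (CommRingCat.ofHom φb.toRingHom) ≫ i = b.left)
    (P : Ideal A) [P.IsPrime] (hPa : P ≤ RingHom.ker φa) (hPb : P ≤ RingHom.ker φb)
    (hdim : ringKrullDim (A ⧸ P) ≤ 1) : CurvePair U a b := by
  by_cases hfield : P.IsMaximal
  · have h : RingHom.ker φa = RingHom.ker φb := by
      haveI : (RingHom.ker φa).IsPrime := RingHom.ker_isPrime _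
      haveI : (RingHom.ker φb).IsPrime := RingHom.ker_isPrime _
      rw [← hfield.eq_of_le (Ideal.IsPrime.ne_top ‹_›) hPa, ← hfield.eq_of_le (Ideal.IsPrime.ne_top ‹_›) hPb]
    have hab : φa = φb := AlgHom.ext fun x => by
      have h1 : x - algebraMap k A (φa x) ∈ RingHom.ker φb := by rw [← h]; simp
      rw [RingHom.mem_ker, map_sub, AlgHom.commutes, sub_eq_zero] at h1
      exact h1.symm
    have hab' : a = b := Over.OverMorphism.ext (by rw [← ha, ← hb, hab])
    subst hab'
    exact curvePair_refl U a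
  let R := A ⧸ P
  let K := FractionRing R
  let B' := integralClosure R K
  haveI : Module.Finite R B' := IntClosFin.finite_integralClosure k R K K
  haveI : IsFractionRing B' K := integralClosure.isFractionRing_of_finite_extension K K
  haveI : IsIntegrallyClosed B' := integralClosure.isIntegrallyClosedOfFiniteExtension K
  haveI : Algebra.FiniteType k B' := Algebra.FiniteType.trans (S := R) inferInstance inferInstance
  have hinj : Function.Injective (algebraMap R B') := fun x y h =>
    IsFractionRing.injective R K (congrArg Subtype.val h :)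
  have hdim' : ringKrullDim B' ≤ 1 := by
    haveI : Algebra.IsIntegral R B' := inferInstance
    rwa [VarDim.ringKrullDim_eq_of_isIntegral hinj]
  have hnf : ∀ M : Ideal B', M.IsMaximal → M ≠ ⊥ := by
    intro M hM h
    subst h
    have := Ideal.isMaximal_comap_of_isIntegral_of_isMaximal (R := R) (⊥ : Ideal B')
    rw [Ideal.comap_bot_of_injective _ hinj] at this
    exact hfield (Ideal.Quotient.maximal_of_isField P ((Ring.isField_iff_maximal_bot).2 this))
  haveI : IsNoetherianRing B' := Algebra.FiniteType.isNoetherianRing k B'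
  let C : Scheme.{u} := Spec (CommRingCat.of B')
  let p : C ⟶ Spec (CommRingCat.of k) := Spec.map (CommRingCat.ofHom (algebraMap k B'))
  haveI : LocallyOfFiniteType p := by
    rw [HasRingHomProperty.Spec_iff (P := @LocallyOfFiniteType)]
    exact RingHom.finiteType_algebraMap.2 inferInstance
  have hX : ∀ x : C, IsClosed ({x} : Set C) → ringKrullDim (C.presheaf.stalk x) = 1 := by
    intro x hx
    let M : PrimeSpectrum B' := x
    haveI : M.asIdeal.IsMaximal := (PrimeSpectrum.isClosed_singleton_iff_isMaximal M).1 hx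
    letI : Algebra B' (C.presheaf.stalk x) := StructureSheaf.stalkAlgebra B' M
    haveI : IsLocalization.AtPrime (C.presheaf.stalk x) M.asIdeal := StructureSheaf.IsLocalization.to_stalk B' M
    rw [IsLocalization.AtPrime.ringKrullDim_eq_height M.asIdeal (C.presheaf.stalk x)]
    refine le_antisymm ?_ ?_
    · exact (Ideal.height_le_ringKrullDim_of_ne_top (Ideal.IsPrime.ne_top M.2)).trans hdim'
    · have h : (1 : ℕ∞) ≤ M.asIdeal.height := by
        rw [Order.one_le_iff_pos]
        rw [pos_iff_ne_zero]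
        intro h0
        exact hnf _ inferInstance (Ideal.height_eq_zero_iff_eq_bot.1 h0)
      exact WithBot.coe_le_coe.2 h
  have hN : Pi1.IsNormalScheme C := by
    intro x
    let M : PrimeSpectrum B' := x
    letI : Algebra B' (C.presheaf.stalk x) := StructureSheaf.stalkAlgebra B' M
    haveI : IsLocalization.AtPrime (C.presheaf.stalk x) M.asIdeal := StructureSheaf.IsLocalization.to_stalk B' M
    haveI : IsDomain (C.presheaf.stalk x) :=
      IsLocalization.isDomain_of_le_nonZeroDivisors (R := B') (S := C.presheaf.stalk x)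
        M.asIdeal.primeCompl_le_nonZeroDivisors
    exact ⟨inferInstance,
      isIntegrallyClosed_of_isLocalization (R := B') _ M.asIdeal.primeCompl M.asIdeal.primeCompl_le_nonZeroDivisors⟩
  obtain ⟨Y, hY, q, j, hq, hj, hjq, hYN, hYX⟩ := CurveNF.exists_completion_integral p hX hN
  haveI : IsLocallyNoetherian Y := LocallyOfFiniteType.isLocallyNoetherian q
  haveI : LocallyOfFinitePresentation q := inferInstance
  have hsm : Smooth q := RegSmooth17.smooth_of_regular_of_perfectField q fun y => by
    haveI := (hYN y).1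
    haveI := (hYN y).2
    exact DVRVal.isRegularLocalRing_of_normal _ (DVRVal.ringKrullDim_stalk_le_one q hYX y)
  let RA : A →ₐ[k] R := Ideal.Quotient.mkₐ k P
  let toA : A →ₐ[k] B' := (IsScalarTower.toAlgHom k R B').comp RA
  let γ₀ : C ⟶ U.left := Spec.map (CommRingCat.ofHom toA.toRingHom) ≫ i
  have hγ : γ₀ ≫ U.hom = p := by
    rw [Category.assoc, hi, ← Spec.map_comp, ← CommRingCat.ofHom_comp]
    congr 2
  let COver : Over (Spec (CommRingCat.of k)) := Over.mk p
  let CbOver : Over (Spec (CommRingCat.of k)) := Over.mk q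
  obtain ⟨ψa, hψa⟩ := exists_algHom_lift (k := k) (B' := B') hinj (Ideal.Quotient.liftₐ P φa fun x hx => hPa hx)
  obtain ⟨ψb, hψb⟩ := exists_algHom_lift (k := k) (B' := B') hinj (Ideal.Quotient.liftₐ P φb fun x hx => hPb hx)
  have hpt : ∀ ψ : B' →ₐ[k] k, Spec.map (CommRingCat.ofHom ψ.toRingHom) ≫ p = 𝟙 _ := fun ψ => by
    rw [← Spec.map_comp, ← CommRingCat.ofHom_comp, ← Spec.map_id]
    congr 2
    exact ψ.comp_algebraMap
  let c : (B' →ₐ[k] k) → (𝟙_ (Over (Spec (CommRingCat.of k))) ⟶ COver) := fun ψ =>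
    Over.homMk (Spec.map (CommRingCat.ofHom ψ.toRingHom)) (hpt ψ)
  refine ⟨COver, CbOver, Over.homMk j hjq, Over.homMk γ₀ hγ, c ψa, c ψb, hj, hq, hsm,
    geometricallyIntegral_of_isIntegral q, Over.OverMorphism.ext ?_, Over.OverMorphism.ext ?_⟩
  · show Spec.map (CommRingCat.ofHom ψa.toRingHom) ≫ γ₀ = a.left
    rw [← ha, ← Category.assoc, ← Spec.map_comp, ← CommRingCat.ofHom_comp]
    congr 3
    refine RingHom.ext fun x => ?_
    exact AlgHom.congr_fun hψa (RA x)
  · show Spec.map (CommRingCat.ofHom ψb.toRingHom) ≫ γ₀ = b.left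
    rw [← hb, ← Category.assoc, ← Spec.map_comp, ← CommRingCat.ofHom_comp]
    congr 3
    refine RingHom.ext fun x => ?_
    exact AlgHom.congr_fun hψb (RA x)

/-- Around any point of a smooth variety there is a nonempty open set of partners. -/
theorem exists_open_pair (U : Over (Spec (CommRingCat.of k))) [Smooth U.hom] [GeometricallyIntegral U.hom]
    (a : 𝟙_ (Over (Spec (CommRingCat.of k))) ⟶ U) :
    ∃ O : U.left.Opens, (O : Set U.left).Nonempty ∧
      ∀ b : 𝟙_ (Over (Spec (CommRingCat.of k))) ⟶ U, rpt b ∈ O → CurvePair U a b := by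
  haveI : IsIntegral U.left := GeometricallyIntegral.isIntegral_of_subsingleton U.hom
  obtain ⟨T, hT, V, hV, hxV, hVT, hstd⟩ := Smooth.exists_isStandardSmooth U.hom (rpt a)
  have hTtop : T = ⊤ := by
    refine eq_top_iff.2 fun z _ => ?_
    rw [Subsingleton.elim (α := PrimeSpectrum k) z (U.hom (rpt a))]
    exact hVT hxV
  subst hTtop
  let A := Γ(U.left, V)
  letI : Algebra k A := ((Scheme.ΓSpecIso (CommRingCat.of k)).inv ≫ U.hom.appLE ⊤ V le_top).hom.toAlgebra
  haveI : Nonempty V := ⟨⟨_, hxV⟩⟩
  haveI : IsDomain A := IsIntegral.component_integral _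
  have hA : (algebraMap k A).IsStandardSmooth := by
    show ((Scheme.ΓSpecIso (CommRingCat.of k)).inv ≫ U.hom.appLE ⊤ V le_top).hom.IsStandardSmooth
    rw [CommRingCat.hom_comp]
    exact RingHom.isStandardSmooth_respectsIso.2 _ (Scheme.ΓSpecIso (CommRingCat.of k)).symm.commRingCatIsoToRingEquiv hstd
  have hi : hV.fromSpec ≫ U.hom = Spec.map (CommRingCat.ofHom (algebraMap k A)) := by
    rw [← (isAffineOpen_top (Spec (CommRingCat.of k))).SpecMap_appLE_fromSpec U.hom hV le_top,
      IsAffineOpen.fromSpec_top, Scheme.isoSpec_Spec_inv, ← Spec.map_comp]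
    rfl
  have hpt : ∀ b : 𝟙_ (Over (Spec (CommRingCat.of k))) ⟶ U, rpt b ∈ V →
      ∃ φ : A →ₐ[k] k, Spec.map (CommRingCat.ofHom φ.toRingHom) ≫ hV.fromSpec = b.left := by
    intro b hb
    have hr : Set.range b.left ⊆ Set.range hV.fromSpec := by
      rintro _ ⟨z, rfl⟩
      rw [hV.range_fromSpec, Subsingleton.elim (α := PrimeSpectrum k) z (IsLocalRing.closedPoint k)]
      exact hb
    obtain ⟨ψ, hψ⟩ : ∃ ψ : CommRingCat.of A ⟶ CommRingCat.of k, Spec.map ψ = IsOpenImmersion.lift hV.fromSpec b.left hr :=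
      ⟨Spec.preimage _, Spec.map_preimage _⟩
    have hfac : Spec.map ψ ≫ hV.fromSpec = b.left := by rw [hψ, IsOpenImmersion.lift_fac]
    have hk : CommRingCat.ofHom (algebraMap k A) ≫ ψ = 𝟙 _ := by
      apply Spec.map_injective
      rw [Spec.map_comp, ← hi, ← Category.assoc, hfac, Spec.map_id]
      exact Over.w b
    exact ⟨⟨ψ.hom, fun c => RingHom.congr_fun (congrArg CommRingCat.Hom.hom hk) c⟩, hfac⟩
  obtain ⟨φa, hφa⟩ := hpt a hxV
  obtain ⟨o, ho, hopen⟩ := exists_open_through hA φa
  haveI : Algebra.IsStandardSmooth k A := RingHom.isStandardSmooth_algebraMap.1 hA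
  haveI : Algebra.FiniteType k A := inferInstance
  refine ⟨U.left.basicOpen o, ?_, fun b hb => ?_⟩
  · rw [Set.nonempty_iff_ne_empty, ← TopologicalSpace.Opens.coe_bot, ne_eq, SetLike.coe_set_eq]
    exact fun h => ho ((basicOpen_eq_bot_iff _).1 h)
  · obtain ⟨φb, hφb⟩ := hpt b (U.left.basicOpen_le o hb)
    obtain ⟨P, hP, hPa, hPb, hdim⟩ := hopen φb (by
      intro h
      let z : Spec (CommRingCat.of A) := Spec.map (CommRingCat.ofHom φb.toRingHom) (IsLocalRing.closedPoint k)
      have hz : z ∈ hV.fromSpec ⁻¹ᵁ U.left.basicOpen o := by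
        show hV.fromSpec z ∈ U.left.basicOpen o
        rw [← Scheme.Hom.comp_apply, hφb]
        exact hb
      rw [hV.fromSpec_preimage_basicOpen] at hz
      apply hz
      show φb.toRingHom o ∈ (IsLocalRing.closedPoint k).asIdeal
      rw [show φb.toRingHom o = 0 from h]
      exact zero_mem _)
    exact curvePair_of_prime U hV.fromSpec hi φa φb a b hφa hφb P hPa hPb hdim

/-- Any two points of a smooth variety have a common partner. -/
theorem exists_common_partner (U : Over (Spec (CommRingCat.of k))) [Smooth U.hom] [QuasiCompact U.hom]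
    [GeometricallyIntegral U.hom] (a₀ a₁ : 𝟙_ (Over (Spec (CommRingCat.of k))) ⟶ U) :
    ∃ b, CurvePair U a₀ b ∧ CurvePair U a₁ b := by
  haveI : IsIntegral U.left := GeometricallyIntegral.isIntegral_of_subsingleton U.hom
  obtain ⟨O₀, h₀, H₀⟩ := exists_open_pair U a₀
  obtain ⟨O₁, h₁, H₁⟩ := exists_open_pair U a₁
  have hne : ((O₀ ⊓ O₁ : U.left.Opens) : Set U.left).Nonempty := nonempty_preirreducible_inter O₀.2 O₁.2 h₀ h₁
  haveI : JacobsonSpace U.left := LocallyOfFiniteType.jacobsonSpace U.hom
  obtain ⟨x, hx, hxc⟩ := nonempty_inter_closedPoints hne (O₀ ⊓ O₁).2.isLocallyClosed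
  obtain ⟨b, rfl⟩ := exists_rpt (X := U) hxc
  exact ⟨b, H₀ b hx.1, H₁ b hx.2⟩

end Groth.Agent.SquareNC14
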