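import Groth.Agent.Lib.SquareNC14.Branch
import Groth.Agent.Lib.GeomSpread4.Main
import Groth.Agent.Lib.VarDim.Alg
import Groth.Agent.S2150

/-!
# A curve through a point and a general point of a smooth affine variety

Pencil of lines through the point in etale coordinates: the blow-up chart has an irreducible general fibre,
since the constants are algebraically closed in the field of Laurent series.
-/

set_option autoImplicit false
universe u

open CategoryTheory CategoryTheory.Limits AlgebraicGeometry TensorProduct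

namespace Groth.Agent.SquareNC14

/-- Geometric irreducibility of the generic fibre of a domain over a domain. -/
theorem irreducibleSpace_tensor {R L B F L' : Type u} [CommRing R] [IsDomain R] [Field L] [Algebra R L]
    [IsFractionRing R L] [CommRing B] [Algebra R B] [Field F] [Algebra B F] [IsFractionRing B F]
    [Algebra R F] [IsScalarTower R B F] [Algebra L F] [IsScalarTower R L F]
    (hsep : ∀ e : F, IsSeparable L e → e ∈ Set.range (algebraMap L F))
    [Field L'] [Algebra R L'] (hinj : Function.Injective (algebraMap R L')) :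
    IrreducibleSpace (PrimeSpectrum (L' ⊗[R] B)) := by
  letI : Algebra L L' := (IsFractionRing.lift hinj).toAlgebra
  haveI : IsScalarTower R L L' := IsScalarTower.of_algebraMap_eq fun r => (IsFractionRing.lift_algebraMap hinj r).symm
  haveI : Module.Flat R L := IsLocalization.flat L (nonZeroDivisors R)
  haveI : Module.Flat R L' := Module.Flat.trans R L L'
  have h := (Groth.Agent.S2150.result (k := L) (K := F)).2 hsep L'
  rw [PrimeSpectrum.irreducibleSpace_iff_isPrime_nilradical] at h ⊢
  let φ : L' ⊗[R] B →ₐ[R] L' ⊗[R] F := Algebra.TensorProduct.map (AlgHom.id R L') (IsScalarTower.toAlgHom R B F)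
  have hφ : Function.Injective φ :=
    Module.Flat.lTensor_preserves_injective_linearMap (M := L') (IsScalarTower.toAlgHom R B F).toLinearMap
      (IsFractionRing.injective B F)
  let e : L' ⊗[L] F ≃ₐ[L] L' ⊗[R] F := IsLocalization.algebraTensorEquiv (nonZeroDivisors R) L L' F
  let ψ : L' ⊗[R] B →+* L' ⊗[L] F := e.symm.toRingEquiv.toRingHom.comp φ.toRingHom
  have hψ : Function.Injective ψ := e.symm.injective.comp hφ
  have hnil : nilradical (L' ⊗[R] B) = (nilradical (L' ⊗[L] F)).comap ψ := by
    ext x
    rw [mem_nilradical, Ideal.mem_comap, mem_nilradical, IsNilpotent.map_iff hψ]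
  rw [hnil]
  exact h.comap ψ

variable {k : Type u} [Field k] {d : ℕ}

local notation "Pn" => MvPolynomial (Option (Fin d)) k
local notation "Rd" => MvPolynomial (Fin d) k

/-- A prime containing the equations of a line in etale coordinates and lying below the point cuts out
at most a curve. -/
theorem ringKrullDim_le_one {A : Type u} [CommRing A] [Algebra k A] [Algebra.FiniteType k A]
    [Algebra Pn A] [IsScalarTower k Pn A] [Algebra.Etale Pn A]
    (a : A →ₐ[k] k) (ha : ∀ j, a (algebraMap Pn A (MvPolynomial.X j)) = 0) (c : Fin d → k)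
    (P : Ideal A) [P.IsPrime] (hPa : P ≤ RingHom.ker a)
    (hP : ∀ i, algebraMap Pn A (MvPolynomial.X (some i)) -
      algebraMap k A (c i) * algebraMap Pn A (MvPolynomial.X none) ∈ P) :
    ringKrullDim (A ⧸ P) ≤ 1 := by
  haveI hm : (RingHom.ker a).IsMaximal :=
    RingHom.ker_isMaximal_of_surjective _ fun x => ⟨algebraMap k A x, a.commutes x⟩
  set t0 : A := algebraMap Pn A (MvPolynomial.X none) with ht0
  have key : ∀ Q : Ideal A, Q.IsPrime → P ≤ Q → t0 ∈ Q → Q ≤ RingHom.ker a → Q = RingHom.ker a := by
    intro Q hQ hPQ ht hQa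
    refine Algebra.QuasiFinite.eq_of_le_of_under_eq (R := Pn) Q (RingHom.ker a) hQa ?_
    refine le_antisymm (Ideal.comap_mono hQa) fun p hp => ?_
    have hp0 : MvPolynomial.constantCoeff p = 0 := by
      have h1 : (a : A →+* k).comp (algebraMap Pn A) = MvPolynomial.constantCoeff := by
        refine MvPolynomial.ringHom_ext (fun x => ?_) (fun j => ?_)
        · rw [RingHom.comp_apply, ← MvPolynomial.algebraMap_eq, ← IsScalarTower.algebraMap_apply,
            MvPolynomial.algebraMap_eq, MvPolynomial.constantCoeff_C]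
          exact a.commutes x
        · rw [RingHom.comp_apply, MvPolynomial.constantCoeff_X]
          exact ha j
      rw [← h1]
      exact hp
    have h2 : (Ideal.Quotient.mk Q).comp (algebraMap Pn A) =
        ((Ideal.Quotient.mk Q).comp (algebraMap k A)).comp MvPolynomial.constantCoeff := by
      refine MvPolynomial.ringHom_ext (fun x => ?_) (fun j => ?_)
      · simp only [RingHom.comp_apply, MvPolynomial.constantCoeff_C]
        rw [← MvPolynomial.algebraMap_eq, ← IsScalarTower.algebraMap_apply]
      · simp only [RingHom.comp_apply, MvPolynomial.constantCoeff_X, map_zero]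
        rw [Ideal.Quotient.eq_zero_iff_mem]
        cases j with
        | none => exact ht
        | some i =>
          have := Q.add_mem (hPQ (hP i)) (Q.mul_mem_left (algebraMap k A (c i)) ht)
          rwa [sub_add_cancel] at this
    show algebraMap Pn A p ∈ Q
    rw [← Ideal.Quotient.eq_zero_iff_mem]
    have := RingHom.congr_fun h2 p
    simp only [RingHom.comp_apply, hp0, map_zero] at this
    exact this
  haveI : IsNoetherianRing A := Algebra.FiniteType.isNoetherianRing k A
  let m : Ideal (A ⧸ P) := (RingHom.ker a).map (Ideal.Quotient.mk P)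
  have hker : RingHom.ker (Ideal.Quotient.mk P) ≤ RingHom.ker a := by rw [Ideal.mk_ker]; exact hPa
  have hcm : m.comap (Ideal.Quotient.mk P) = RingHom.ker a :=
    (Ideal.comap_map_of_surjective' _ Ideal.Quotient.mk_surjective _).trans (sup_eq_left.2 hker)
  haveI hmm : m.IsMaximal := by
    rcases Ideal.map_eq_top_or_isMaximal_of_surjective (Ideal.Quotient.mk P) Ideal.Quotient.mk_surjective hm with h | h
    · exfalso; apply hm.ne_top; rw [← hcm]; show (Ideal.map _ _).comap _ = _; rw [h, Ideal.comap_top]
    · exact h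
  have hmin : m ∈ (Ideal.span {Ideal.Quotient.mk P t0}).minimalPrimes := by
    refine ⟨⟨hmm.isPrime, (Ideal.span_singleton_le_iff_mem _).2 (Ideal.mem_map_of_mem _ (ha none))⟩,
      fun Q ⟨hQ, hQt⟩ hQm => ?_⟩
    haveI := hQ
    have h := key (Q.comap (Ideal.Quotient.mk P)) inferInstance
      (fun x hx => by rw [Ideal.mem_comap, Ideal.Quotient.eq_zero_iff_mem.2 hx]; exact zero_mem _)
      (hQt (Ideal.subset_span rfl)) (by rw [← hcm]; exact Ideal.comap_mono hQm)
    show Ideal.map (Ideal.Quotient.mk P) (RingHom.ker a) ≤ Q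
    rw [← h]
    exact Ideal.map_comap_le
  have hht : m.height ≤ 1 := Ideal.height_le_one_of_isPrincipal_of_mem_minimalPrimes _ m hmin
  let pt : PrimeSpectrum (A ⧸ P) := ⟨m, hmm.isPrime⟩
  have hco : Order.coheight pt = 0 := by
    rw [Order.coheight_eq_zero]
    exact fun q hq => (hmm.eq_of_le q.2.ne_top hq).ge
  rw [← VarDim.height_add_coheight k (A ⧸ P) pt, hco, add_zero]
  exact WithBot.coe_le_coe.2 (by rw [← PrimeSpectrum.height_eq_orderHeight pt]; exact hht)

/-- A smooth point and a general point of an affine variety lie on a common irreducible curve. -/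
theorem exists_prime_through [IsAlgClosed k] {A : Type u} [CommRing A] [IsDomain A] [Algebra k A]
    [Algebra.FiniteType k A] [Algebra Pn A] [IsScalarTower k Pn A] [Algebra.Etale Pn A]
    (a : A →ₐ[k] k) (ha : ∀ j, a (algebraMap Pn A (MvPolynomial.X j)) = 0) :
    ∃ o : A, o ≠ 0 ∧ ∀ b : A →ₐ[k] k, b o ≠ 0 → ∃ P : Ideal A, P.IsPrime ∧ P ≤ RingHom.ker a ∧
      P ≤ RingHom.ker b ∧ ringKrullDim (A ⧸ P) ≤ 1 := by
  classical
  -- the substitution X₀ ↦ s, Xᵢ ↦ vᵢ s
  let φ : Pn →ₐ[k] Pn := MvPolynomial.aeval fun j =>
    j.elim (MvPolynomial.X none) fun i => MvPolynomial.X (some i) * MvPolynomial.X none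
  have hφ : Function.Injective φ := by
    let FF := FractionRing Pn
    let al : Pn →+* FF := algebraMap Pn FF
    have hX : al (MvPolynomial.X none) ≠ 0 := fun h =>
      MvPolynomial.X_ne_zero none (IsFractionRing.injective Pn FF (h.trans (map_zero al).symm))
    let χ : Pn →ₐ[k] FF := MvPolynomial.aeval fun j =>
      j.elim (al (MvPolynomial.X none)) fun i => al (MvPolynomial.X (some i)) / al (MvPolynomial.X none)
    have h : χ.comp φ = IsScalarTower.toAlgHom k Pn FF := by
      refine MvPolynomial.algHom_ext fun j => ?_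
      cases j with
      | none => simp [φ, χ, al]
      | some i =>
        simp only [φ, χ, AlgHom.comp_apply, MvPolynomial.aeval_X, Option.elim, map_mul]
        exact div_mul_cancel₀ _ hX
    intro x y hxy
    refine IsFractionRing.injective Pn FF ?_
    exact (AlgHom.congr_fun h x).symm.trans ((congrArg χ hxy).trans (AlgHom.congr_fun h y))
  let f : Pn →+* PowerSeries Rd := (Polynomial.coeToPowerSeries.ringHom).comp
    ((MvPolynomial.optionEquivLeft k (Fin d)).toRingEquiv.toRingHom.comp φ.toRingHom)
  have hf : Function.Injective f :=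
    fun x y h => hφ ((MvPolynomial.optionEquivLeft k (Fin d)).injective (Polynomial.coe_inj.1 h))
  have hfC : ∀ x, f (MvPolynomial.C x) = PowerSeries.C (MvPolynomial.C x) := fun x => by
    simp [f, φ]
  have hf0 : f (MvPolynomial.X none) = PowerSeries.X := by
    simp [f, φ]
  have hfs : ∀ i, f (MvPolynomial.X (some i)) = PowerSeries.C (MvPolynomial.X i) * PowerSeries.X := fun i => by
    simp [f, φ]
  let a₀ : A →+* Rd := (algebraMap k Rd).comp (a : A →+* k)
  obtain ⟨θ, hθ, hθ0⟩ := exists_lift_powerSeries (R := Rd) f a₀ (by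
    refine MvPolynomial.ringHom_ext (fun x => ?_) (fun j => ?_)
    · simp only [RingHom.comp_apply, hfC, PowerSeries.constantCoeff_C, a₀]
      rw [← MvPolynomial.algebraMap_eq, ← IsScalarTower.algebraMap_apply]
      show algebraMap k Rd (a (algebraMap k A x)) = _
      rw [a.commutes]; rfl
    · simp only [RingHom.comp_apply, a₀]
      show algebraMap k Rd (a (algebraMap Pn A (MvPolynomial.X j))) = _
      rw [ha, map_zero]
      cases j with
      | none => rw [hf0, PowerSeries.constantCoeff_X]
      | some i => rw [hfs, map_mul, PowerSeries.constantCoeff_X, mul_zero])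
  have hθinj : Function.Injective θ := by
    haveI := RingHom.ker_isPrime θ
    rw [RingHom.injective_iff_ker_eq_bot]
    refine (Algebra.QuasiFinite.eq_of_le_of_under_eq (R := Pn) (⊥ : Ideal A) (RingHom.ker θ) bot_le ?_).symm
    refine le_antisymm (Ideal.comap_mono bot_le) fun p hp => ?_
    have hp0 : f p = 0 := by rw [← hθ]; exact hp
    rw [(map_eq_zero_iff _ hf).1 hp0]
    exact zero_mem _
  set t0 : A := algebraMap Pn A (MvPolynomial.X none) with ht0def
  let t : Fin d → A := fun i => algebraMap Pn A (MvPolynomial.X (some i))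
  have hθt0 : θ t0 = PowerSeries.X := (RingHom.congr_fun hθ _).trans hf0
  have hθt : ∀ i, θ (t i) = PowerSeries.C (MvPolynomial.X i) * PowerSeries.X := fun i =>
    (RingHom.congr_fun hθ _).trans (hfs i)
  have hθk : ∀ x, θ (algebraMap k A x) = PowerSeries.C (MvPolynomial.C x) := fun x => by
    rw [IsScalarTower.algebraMap_apply k Pn A, MvPolynomial.algebraMap_eq, ← hfC]
    exact RingHom.congr_fun hθ _
  have ht0 : t0 ≠ 0 := fun h => PowerSeries.X_ne_zero (by rw [← hθt0, h, map_zero])
  -- the blow-up chart
  let Ψ : MvPolynomial (Fin d) A →+* PowerSeries Rd :=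
    MvPolynomial.eval₂Hom θ fun i => PowerSeries.C (MvPolynomial.X i)
  let incl : Rd →+* MvPolynomial (Fin d) A := MvPolynomial.map (algebraMap k A)
  have hΨi : ∀ r, Ψ (incl r) = PowerSeries.C r := by
    intro r
    have h : Ψ.comp incl = PowerSeries.C := by
      refine MvPolynomial.ringHom_ext (fun x => ?_) (fun i => ?_)
      · simp [Ψ, incl, hθk]
      · simp [Ψ, incl]
    exact RingHom.congr_fun h r
  haveI : (RingHom.ker Ψ).IsPrime := RingHom.ker_isPrime Ψ
  let Bq := MvPolynomial (Fin d) A ⧸ RingHom.ker Ψ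
  let mkq : MvPolynomial (Fin d) A →+* Bq := Ideal.Quotient.mk _
  letI : Algebra Rd Bq := (mkq.comp incl).toAlgebra
  let ΨB : Bq →+* PowerSeries Rd := RingHom.kerLift Ψ
  have hΨB : Function.Injective ΨB := RingHom.kerLift_injective Ψ
  let L := FractionRing Rd
  let F := FractionRing Bq
  have hRB : Function.Injective (algebraMap Rd Bq) := by
    intro x y hxy
    have h := congrArg ΨB hxy
    change Ψ (incl x) = Ψ (incl y) at h
    rw [hΨi, hΨi] at h
    exact PowerSeries.C_injective h
  have hRF : Function.Injective (algebraMap Rd F) := by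
    rw [IsScalarTower.algebraMap_eq Rd Bq F]
    exact (IsFractionRing.injective Bq F).comp hRB
  letI : Algebra L F := (IsFractionRing.lift hRF).toAlgebra
  haveI : IsScalarTower Rd L F :=
    IsScalarTower.of_algebraMap_eq fun r => (IsFractionRing.lift_algebraMap hRF r).symm
  -- the constants are algebraically closed
  let κ : PowerSeries Rd →+* LaurentSeries L :=
    (HahnSeries.ofPowerSeries ℤ L).comp (PowerSeries.map (algebraMap Rd L))
  have hκ : Function.Injective κ := HahnSeries.ofPowerSeries_injective.comp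
    (PowerSeries.map_injective _ (IsFractionRing.injective Rd L))
  let j : F →+* LaurentSeries L := IsFractionRing.lift (g := κ.comp ΨB) (hκ.comp hΨB)
  have hjL : j.comp (algebraMap L F) = algebraMap L (LaurentSeries L) := by
    refine IsLocalization.ringHom_ext (nonZeroDivisors Rd) (RingHom.ext fun r => ?_)
    show j (algebraMap L F (algebraMap Rd L r)) = algebraMap L (LaurentSeries L) (algebraMap Rd L r)
    rw [← IsScalarTower.algebraMap_apply Rd L F, IsScalarTower.algebraMap_apply Rd Bq F]
    rw [IsFractionRing.lift_algebraMap]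
    show κ (Ψ (incl r)) = _
    rw [hΨi]
    simp [κ, HahnSeries.algebraMap_apply', PowerSeries.algebraMap_apply]
  have hsep : ∀ e : F, IsSeparable L e → e ∈ Set.range (algebraMap L F) := by
    intro e he
    let jA : F →ₐ[L] LaurentSeries L := ⟨j, fun x => RingHom.congr_fun hjL x⟩
    obtain ⟨c, hc⟩ := mem_range_of_isAlgebraic (jA e) (he.isIntegral.isAlgebraic.algHom jA)
    exact ⟨c, j.injective ((RingHom.congr_fun hjL c).trans hc)⟩
  haveI : Algebra.FinitePresentation Rd Bq := by
    haveI : IsNoetherianRing A := Algebra.FiniteType.isNoetherianRing k A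
    refine (Algebra.FinitePresentation.of_finiteType).1 ?_
    letI : Algebra Rd (MvPolynomial (Fin d) A) := incl.toAlgebra
    let mkA : MvPolynomial (Fin d) A →ₐ[Rd] Bq := ⟨mkq, fun r => rfl⟩
    haveI : IsScalarTower k Rd (MvPolynomial (Fin d) A) := IsScalarTower.of_algebraMap_eq fun x => by
      show _ = MvPolynomial.map (algebraMap k A) (MvPolynomial.C x)
      rw [MvPolynomial.map_C]; rfl
    haveI : Algebra.FiniteType k (MvPolynomial (Fin d) A) :=
      Algebra.FiniteType.trans (S := A) inferInstance inferInstance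
    haveI : Algebra.FiniteType Rd (MvPolynomial (Fin d) A) :=
      Algebra.FiniteType.of_restrictScalars_finiteType k Rd _
    exact Algebra.FiniteType.of_surjective mkA Ideal.Quotient.mk_surjective
  let fB : Spec (CommRingCat.of Bq) ⟶ Spec (CommRingCat.of Rd) := Spec.map (CommRingCat.ofHom (algebraMap Rd Bq))
  haveI : LocallyOfFinitePresentation fB := by
    rw [HasRingHomProperty.Spec_iff (P := @LocallyOfFinitePresentation)]
    exact RingHom.finitePresentation_algebraMap.2 inferInstance
  obtain ⟨g, hg0, hgirr⟩ := GeomSpread4.exists_irreducible_fibres fB fun L' _ _ hinj => by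
    rw [GeomSpread4.irreducibleSpace_pullback_spec_iff]
    exact irreducibleSpace_tensor (L := L) (F := F) hsep hinj
  -- the open set of second points
  let A0 := Localization.Away t0
  let Φ : MvPolynomial (Fin d) A →+* A0 := MvPolynomial.eval₂Hom (algebraMap A A0)
    fun i => algebraMap A A0 (t i) * IsLocalization.Away.invSelf t0
  let K := FractionRing (PowerSeries Rd)
  let ιK : PowerSeries Rd →+* K := algebraMap _ K
  have hιK : Function.Injective ιK := IsFractionRing.injective _ K
  have hgu : IsUnit ((ιK.comp θ) t0) := isUnit_iff_ne_zero.2 fun h =>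
    PowerSeries.X_ne_zero (hθt0.symm.trans (hιK (h.trans (map_zero ιK).symm)))
  let Θ : A0 →+* K := IsLocalization.Away.lift t0 hgu
  have hA0 : Function.Injective (algebraMap A A0) :=
    IsLocalization.injective A0 (Submonoid.powers_le.2 (mem_nonZeroDivisors_of_ne_zero ht0))
  have hΘ : Function.Injective Θ := by
    refine (IsLocalization.lift_injective_iff _).2 fun x y => ⟨fun h => ?_, fun h => ?_⟩
    · rw [hA0 h]
    · rw [(hιK.comp hθinj) h]
  have hΘa : ∀ x, Θ (algebraMap A A0 x) = ιK (θ x) := fun x => IsLocalization.Away.lift_eq t0 hgu x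
  have hΘΦ : Θ.comp Φ = ιK.comp Ψ := by
    refine MvPolynomial.ringHom_ext (fun x => ?_) (fun i => ?_)
    · simp [Φ, Ψ, hΘa]
    · simp only [RingHom.comp_apply, Φ, Ψ, MvPolynomial.eval₂Hom_X', map_mul, hΘa]
      refine mul_right_cancel₀ hgu.ne_zero ?_
      rw [hθt, map_mul, mul_assoc, show (ιK.comp θ) t0 = Θ (algebraMap A A0 t0) from (hΘa t0).symm,
        ← map_mul Θ, mul_comm (IsLocalization.Away.invSelf t0), IsLocalization.Away.mul_invSelf, map_one,
        mul_one, hΘa, hθt0]
  obtain ⟨n, q, hq⟩ := IsLocalization.Away.surj t0 (Φ (incl g))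
  have hΦg : Φ (incl g) ≠ 0 := fun h => by
    have h2 := RingHom.congr_fun hΘΦ (incl g)
    simp only [RingHom.comp_apply, h, map_zero, hΨi] at h2
    exact hg0 (PowerSeries.C_injective ((map_eq_zero_iff _ hιK).1 h2.symm |>.trans (map_zero _).symm))
  have hq0 : q ≠ 0 := fun h => hΦg (by
    rw [h, map_zero] at hq
    exact ((IsLocalization.Away.algebraMap_isUnit t0).pow n).mul_left_eq_zero.1 hq)
  refine ⟨t0 * q, mul_ne_zero ht0 hq0, fun b hb => ?_⟩
  rw [map_mul] at hb
  have hbu : IsUnit ((b : A →+* k) t0) := isUnit_iff_ne_zero.2 fun h => hb (by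
    rw [show b t0 = 0 from h, zero_mul])
  let b' : A0 →+* k := IsLocalization.Away.lift t0 hbu
  have hb'a : ∀ x, b' (algebraMap A A0 x) = b x := fun x => IsLocalization.Away.lift_eq t0 hbu x
  let c : Fin d → k := fun i => b' (algebraMap A A0 (t i) * IsLocalization.Away.invSelf t0)
  let evb : MvPolynomial (Fin d) A →+* k := b'.comp Φ
  let evc : Rd →+* k := MvPolynomial.eval c
  have hevb : evb.comp incl = evc := by
    refine MvPolynomial.ringHom_ext (fun x => ?_) (fun i => ?_)
    · simp [evb, evc, Φ, incl, hb'a]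
    · simp [evb, evc, Φ, incl, c]
  have hker : RingHom.ker Ψ ≤ RingHom.ker evb := fun p hp => by
    have h2 := RingHom.congr_fun hΘΦ p
    simp only [RingHom.comp_apply, RingHom.mem_ker.1 hp, map_zero] at h2
    rw [RingHom.mem_ker]
    show b' (Φ p) = 0
    rw [(map_eq_zero_iff _ hΘ).1 h2, map_zero]
  have hcg : evc g ≠ 0 := by
    rw [← hevb]
    intro h
    have h2 := congrArg b' hq
    rw [map_mul, show b' (Φ (incl g)) = 0 from h, zero_mul, hb'a] at h2
    exact hb (by rw [← h2, mul_zero])
  letI : Algebra Rd k := evc.toAlgebra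
  haveI hirr := hgirr k hcg
  rw [GeomSpread4.irreducibleSpace_pullback_spec_iff, PrimeSpectrum.irreducibleSpace_iff_isPrime_nilradical] at hirr
  let β₁ : Bq →ₐ[Rd] k := ⟨Ideal.Quotient.lift _ evb hker, fun r => RingHom.congr_fun hevb r⟩
  let β₂ : Bq →ₐ[Rd] k := ⟨evc.comp (PowerSeries.constantCoeff.comp ΨB), fun r => by
    show evc (PowerSeries.constantCoeff (Ψ (incl r))) = evc r
    rw [hΨi, PowerSeries.constantCoeff_C]⟩
  let N := nilradical (k ⊗[Rd] Bq)
  let incR : Bq →ₐ[Rd] k ⊗[Rd] Bq := Algebra.TensorProduct.includeRight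
  let toT : A →+* k ⊗[Rd] Bq := incR.toRingHom.comp (mkq.comp MvPolynomial.C)
  have hle : ∀ (β : Bq →ₐ[Rd] k) (x : A), x ∈ N.comap toT → β (mkq (MvPolynomial.C x)) = 0 := by
    intro β x hx
    let τ : k ⊗[Rd] Bq →ₐ[k] k := Algebra.TensorProduct.lift (AlgHom.id k k) β fun _ _ => Commute.all _ _
    have h2 : toT x ∈ RingHom.ker τ.toRingHom := by
      haveI : (RingHom.ker τ.toRingHom).IsPrime := RingHom.ker_isPrime _
      exact nilradical_le_prime _ hx
    change τ (1 ⊗ₜ[Rd] mkq (MvPolynomial.C x)) = 0 at h2
    simpa [τ] using h2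
  refine ⟨N.comap toT, inferInstance, fun x hx => ?_, fun x hx => ?_, ?_⟩
  · have h := hle β₂ x hx
    change evc (PowerSeries.constantCoeff (Ψ (MvPolynomial.C x))) = 0 at h
    rw [show Ψ (MvPolynomial.C x) = θ x from MvPolynomial.eval₂Hom_C _ _ x,
      show PowerSeries.constantCoeff (θ x) = a₀ x from RingHom.congr_fun hθ0 x] at h
    show a x = 0
    simpa [a₀, evc] using h
  · have h := hle β₁ x hx
    change b' (Φ (MvPolynomial.C x)) = 0 at h
    rw [show Φ (MvPolynomial.C x) = algebraMap A A0 x from MvPolynomial.eval₂Hom_C _ _ x, hb'a] at h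
    exact h
  · haveI : (N.comap toT).IsPrime := inferInstance
    refine ringKrullDim_le_one a ha c _ (fun x hx => ?_) fun i => ?_
    · have h := hle β₂ x hx
      change evc (PowerSeries.constantCoeff (Ψ (MvPolynomial.C x))) = 0 at h
      rw [show Ψ (MvPolynomial.C x) = θ x from MvPolynomial.eval₂Hom_C _ _ x,
        show PowerSeries.constantCoeff (θ x) = a₀ x from RingHom.congr_fun hθ0 x] at h
      show a x = 0
      simpa [a₀, evc] using h
    · show toT (t i - algebraMap k A (c i) * t0) ∈ N
      have h1 : mkq (MvPolynomial.C (t i)) = algebraMap Rd Bq (MvPolynomial.X i) * mkq (MvPolynomial.C t0) := by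
        apply hΨB
        rw [map_mul]
        show Ψ (MvPolynomial.C (t i)) = Ψ (incl (MvPolynomial.X i)) * Ψ (MvPolynomial.C t0)
        rw [hΨi]
        simp [Ψ, hθt, hθt0]
      have h2 : mkq (MvPolynomial.C (algebraMap k A (c i))) = algebraMap Rd Bq (MvPolynomial.C (c i)) := by
        show _ = mkq (MvPolynomial.map (algebraMap k A) (MvPolynomial.C (c i)))
        rw [MvPolynomial.map_C]
      have h3 : algebraMap Rd (k ⊗[Rd] Bq) (MvPolynomial.X i) = algebraMap Rd (k ⊗[Rd] Bq) (MvPolynomial.C (c i)) := by
        rw [IsScalarTower.algebraMap_apply Rd k (k ⊗[Rd] Bq), IsScalarTower.algebraMap_apply Rd k (k ⊗[Rd] Bq) (MvPolynomial.C (c i))]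
        congr 1
        show evc (MvPolynomial.X i) = evc (MvPolynomial.C (c i))
        simp [evc]
      have h4 : toT (t i - algebraMap k A (c i) * t0) = 0 := by
        show incR (mkq (MvPolynomial.C (t i - algebraMap k A (c i) * t0))) = 0
        rw [map_sub, map_sub, map_sub, h1, map_mul MvPolynomial.C, map_mul mkq, h2, map_mul, map_mul,
          AlgHom.commutes, AlgHom.commutes, h3, sub_self]
      rw [h4]
      exact zero_mem _

end Groth.Agent.SquareNC14
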